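import Groth.Agent.L25.MonoNhd.Kernel
import Groth.Agent.L25.MultSub.Main
import Groth.Agent.L25.Bridge.Lift
import Groth.Agent.L25.MultType.Dense
import Groth.Agent.L25.Locus.Transporter
import Groth.Agent.L02.SchDom.Apply
import Groth.Agent.L02.SchDom.ClosedLocus
import Groth.Agent.L02.SchDom.WeilApps

/-!
# Torsion subgroups of a group of multiplicative type over a field and its centralizer

The centralizer of a group of multiplicative type in an affine algebraic group is the centralizer of one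
of its torsion subgroups.
-/

set_option autoImplicit false
universe u

open CategoryTheory CategoryTheory.Limits MonoidalCategory CartesianMonoidalCategory MonObj GrpObj
open AlgebraicGeometry WithConv

set_option backward.isDefEq.respectTransparency false
set_option backward.isDefEq.respectTransparency.types false

noncomputable section

namespace Groth.L24.QuotAff

open Groth.L25

variable {k : Type u} [Field k]

local notation "S₀" => Spec (CommRingCat.of k)

theorem flat_field (X : Over S₀) : Flat X.hom := by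
  have : IsZariskiLocalAtSource @Flat := inferInstance
  refine (IsZariskiLocalAtSource.iff_of_openCover X.left.affineCover).mpr fun i => ?_
  obtain ⟨φ, hφ⟩ := Spec.map_surjective (X.left.affineCover.f i ≫ X.hom)
  rw [← hφ, HasRingHomProperty.Spec_iff (P := @Flat)]
  letI := φ.hom.toAlgebra
  exact Module.Flat.of_free

/-- the kernel of the `n`-th power map of a group of multiplicative type -/
theorem exists_torsion_subgroup {H : Over S₀} [GrpObj H] (hH : SGA3x.IsMultTypeFT H) {n : ℕ} (hn : 0 < n) :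
    ∃ (K : Over S₀) (_ : GrpObj K) (κ : K ⟶ H), IsMonHom κ ∧ IsClosedImmersion κ.left ∧
      SGA3x.IsMultTypeFT K ∧ IsFinite K.hom ∧ Flat K.hom ∧ LocallyOfFinitePresentation K.hom ∧
      ∀ (T : Over S₀) (x : T ⟶ H), (∃ w, w ≫ κ = x) ↔ x ^ n = 1 := by
  have := Central.isAffineHom_of_multTypeFT hH
  have hc : ∀ {Y : Over S₀} (a b : Y ⟶ H), a * b = b * a := fun a b => Central.mul_comm_of_multTypeFT hH a b
  let pw : H ⟶ H := 𝟙 H ^ n
  have hpw : ∀ {T : Over S₀} (x : T ⟶ H), x ≫ pw = x ^ n := fun x => by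
    rw [MonObj.comp_pow, Category.comp_id]
  have : IsMonHom pw := Bridge.isMonHom_of_mul pw fun {Y} a b => by
    rw [hpw, hpw, hpw]
    exact (Commute.mul_pow (hc a b) n)
  obtain ⟨B, _, _, hB, i, -, him, hic, hi⟩ := MonoNhd.exists_kernel (R := CommRingCat.of k) hH
    (Or.inl (inferInstanceAs (IsNoetherianRing k))) pw
  have := him
  have := hic
  have hi' : ∀ (T : Over S₀) (x : T ⟶ H), (∃ w, w ≫ i = x) ↔ x ^ n = 1 := fun T x => by rw [← hpw]; exact hi T x
  have hfl : Flat (MonoNhd.P k B).hom := flat_field _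
  have hlfp : LocallyOfFinitePresentation (MonoNhd.P k B).hom := by
    show LocallyOfFinitePresentation (Spec.map (CommRingCat.ofHom (algebraMap k B)))
    rw [HasRingHomProperty.Spec_iff (P := @LocallyOfFinitePresentation)]
    exact RingHom.finitePresentation_algebraMap.2 hB
  have hfin : Module.Finite k B := by
    have : Algebra.FiniteType k B := inferInstance
    let e : Cocycle.X (𝟙 S₀) B ⟶ MonoNhd.P k B := Over.homMk (𝟙 _) (by
      show 𝟙 _ ≫ Spec.map (CommRingCat.ofHom (algebraMap k B)) = Spec.map _ ≫ 𝟙 _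
      rw [Category.comp_id, Category.id_comp])
    refine MonoNhd.finite_of_killed (Locus.locally_of_multTypeFT hH) (e ≫ i) ?_ hn
      ((hi' _ _).1 ⟨e, rfl⟩)
    have h1 : pullback.lift (f := H.hom) (g := 𝟙 S₀) (e ≫ i).left
        (Spec.map (CommRingCat.ofHom (algebraMap k B))) (Over.w (e ≫ i)) ≫
          pullback.fst H.hom (𝟙 S₀) = i.left := (pullback.lift_fst _ _ _).trans (Category.id_comp _)
    have : IsClosedImmersion (pullback.lift (f := H.hom) (g := 𝟙 S₀) (e ≫ i).left
        (Spec.map (CommRingCat.ofHom (algebraMap k B))) (Over.w (e ≫ i)) ≫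
          pullback.fst H.hom (𝟙 S₀)) := by rw [h1]; exact hic
    exact IsClosedImmersion.of_comp _ (pullback.fst H.hom (𝟙 S₀))
  refine ⟨MonoNhd.P k B, inferInstance, i, him, hic,
    MultSub.isMultTypeFT_of_closed _ H hH i hic hfl hlfp, ?_, hfl, hlfp, hi'⟩
  show IsFinite (Spec.map (CommRingCat.ofHom (algebraMap k B)))
  rw [IsFinite.SpecMap_iff]
  exact RingHom.finite_algebraMap.2 hfin

/-- Two families of maps on a group of multiplicative type which agree on all torsion points agree. -/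
theorem hom_ext_of_torsion {H G X : Over S₀} [GrpObj H] (hH : SGA3x.IsMultTypeFT H) [IsSeparated G.hom]
    (a b : H ⊗ X ⟶ G)
    (hab : ∀ n : ℕ, 0 < n → ∀ (T : Over S₀) (h : T ⟶ H) (x : T ⟶ X), h ^ n = 1 →
      lift h x ≫ a = lift h x ≫ b) : a = b := by
  have := Central.isAffineHom_of_multTypeFT hH
  have : IsAffine H.left := isAffine_of_isAffineHom H.hom
  obtain ⟨A, _, _, ⟨e⟩⟩ := Bridge.exists_hopf H
  have hA : SGA3b.IsMultType k A :=
    Bridge.isMultType_of_locally A (Bridge.locally_of_iso e (Locus.locally_of_multTypeFT hH))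
  let φ : MonoNhd.P k A ⟶ H := e.inv.hom.hom
  have : IsMonHom φ := e.inv.hom.isMonHom_hom
  have hiso : IsIso φ := ⟨e.hom.hom.hom, congr($(e.inv_hom_id).hom.hom), congr($(e.hom_inv_id).hom.hom)⟩
  have : LocallyOfFiniteType H.hom := TrivLocus.lft_of_multTypeFT hH
  have : Algebra.FiniteType k A := by
    have : IsIso φ.left := inferInstanceAs (IsIso ((Over.forget _).map φ))
    have h : LocallyOfFiniteType (MonoNhd.P k A).hom := by rw [← Over.w φ]; infer_instance
    change LocallyOfFiniteType (Spec.map (CommRingCat.ofHom (algebraMap k A))) at h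
    rw [HasRingHomProperty.Spec_iff (P := @LocallyOfFiniteType), CommRingCat.hom_ofHom,
      RingHom.finiteType_algebraMap] at h
    exact h
  let P := MonoNhd.P k A
  suffices h : (φ ▷ X) ≫ a = (φ ▷ X) ≫ b from (cancel_epi (φ ▷ X)).1 h
  let ι' := ULift.{u} {n : ℕ // 0 < n}
  let T : ι' → Ideal A := fun n => SGA3b.torsionIdeal k A n.down.1
  let f : ∀ n : ι', Spec (CommRingCat.of (A ⧸ T n)) ⟶ P.left :=
    fun n => Spec.map (CommRingCat.ofHom (Ideal.Quotient.mk (T n)))
  have hdom : L02.SchDom.Dom f := by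
    refine (L02.SchDom.dom_spec_iff (B := CommRingCat.of A)
      (fun n : ι' => CommRingCat.ofHom (Ideal.Quotient.mk (T n)))).2 fun h x hx => ?_
    have h0 : algebraMap A (Localization.Away h) x = 0 := by
      rw [← Ideal.mem_bot, ← MultType.Dense.iInf_torsionIdeal_map hA h, Submodule.mem_iInf]
      intro n
      obtain ⟨m, hm⟩ := hx ⟨n⟩
      have h2 : h ^ m * x ∈ SGA3b.torsionIdeal k A n.1 := Ideal.Quotient.eq_zero_iff_mem.1 hm
      have h3 := Ideal.mem_map_of_mem (algebraMap A (Localization.Away h)) h2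
      rw [map_mul] at h3
      exact (Ideal.unit_mul_mem_iff_mem _
        (IsLocalization.map_units (Localization.Away h) (⟨h ^ m, m, rfl⟩ : Submonoid.powers h))).1 h3
    obtain ⟨⟨_, m, rfl⟩, hm⟩ := (IsLocalization.map_eq_zero_iff (Submonoid.powers h) _ x).1 h0
    exact ⟨m, hm⟩
  have hdom' := hdom.baseChange_field (k := k) (p := P.hom) (q := X.hom)
  have : IsClosedImmersion (lift (𝟙 G) (𝟙 G) : G ⟶ G ⊗ G).left := L02.SchDom.isClosedImmersion_diag G
  let ab : P ⊗ X ⟶ G ⊗ G := lift ((φ ▷ X) ≫ a) ((φ ▷ X) ≫ b)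
  refine (L02.SchDom.fac_diag _ _).1 ?_
  obtain ⟨l, hl⟩ := hdom'.factors (lift (𝟙 G) (𝟙 G) : G ⟶ G ⊗ G).left ab.left fun n => by
    let Tn : Over S₀ := Over.mk (L02.SchDom.bcMap P.hom X.hom f n ≫ (P ⊗ X).hom)
    let t : Tn ⟶ P ⊗ X := Over.homMk (L02.SchDom.bcMap P.hom X.hom f n) rfl
    have hw : f n ≫ P.hom = Spec.map (CommRingCat.ofHom (algebraMap k (A ⧸ T n))) := by
      show Spec.map _ ≫ Spec.map (CommRingCat.ofHom (algebraMap k A)) = _
      rw [← Spec.map_comp]
      rfl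
    let c : MonoNhd.P k (A ⧸ T n) ⟶ P := Over.homMk (f n) hw
    have hc : c ^ n.down.1 = 1 := by
      let g : (P ⟶ P) →* (MonoNhd.P k (A ⧸ T n) ⟶ P) :=
        MonoidHom.mk' (c ≫ ·) fun x y => MonObj.comp_mul _ _ _
      let pw : WithConv (A →ₐ[k] A) := toConv (AlgHom.id k A) ^ n.down.1
      have h1 : Spec.mapMulEquiv (R := k) (toConv (AlgHom.id k A)) = 𝟙 P :=
        Over.OverMorphism.ext (Spec.map_id _)
      have h2 : c ≫ Spec.mapMulEquiv pw = c ≫ Spec.mapMulEquiv (1 : WithConv (A →ₐ[k] A)) := by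
        apply Over.OverMorphism.ext
        show Spec.map _ ≫ Spec.map _ = Spec.map _ ≫ Spec.map _
        rw [← Spec.map_comp, ← Spec.map_comp]
        congr 1
        ext x
        exact Ideal.Quotient.eq.2 (MultType.torsionIdeal_le_iff.1 (le_refl (T n)) x)
      have h3 : g (𝟙 P ^ n.down.1) = g 1 := by
        rw [← h1, ← map_pow, ← map_one (Spec.mapMulEquiv (R := k) (S := A) (T := A))]
        exact h2
      rw [map_pow, map_one] at h3
      have h4 : g (𝟙 P) = c := Category.comp_id c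
      rwa [h4] at h3
    let q : Tn ⟶ MonoNhd.P k (A ⧸ T n) := Over.homMk (pullback.fst (f n ≫ P.hom) X.hom) (by
      show _ ≫ Spec.map _ = L02.SchDom.bcMap P.hom X.hom f n ≫ pullback.fst P.hom X.hom ≫ P.hom
      rw [← hw, L02.SchDom.bcMap, pullback.lift_fst_assoc, Category.assoc])
    have hq : t ≫ fst P X = q ≫ c := by
      apply Over.OverMorphism.ext
      show L02.SchDom.bcMap P.hom X.hom f n ≫ pullback.fst P.hom X.hom = pullback.fst _ _ ≫ f n
      exact pullback.lift_fst _ _ _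
    have h5 : (t ≫ fst P X ≫ φ) ^ n.down.1 = 1 := by
      let g : (Tn ⟶ P) →* (Tn ⟶ H) := MonoidHom.mk' (· ≫ φ) fun x y => MonObj.mul_comp _ _ _
      let g' : (MonoNhd.P k (A ⧸ T n) ⟶ P) →* (Tn ⟶ P) :=
        MonoidHom.mk' (q ≫ ·) fun x y => MonObj.comp_mul _ _ _
      rw [← Category.assoc, hq]
      show g (g' c) ^ n.down.1 = 1
      rw [← map_pow, ← map_pow, hc, map_one, map_one]
    have h6 := hab _ n.down.2 Tn (t ≫ fst P X ≫ φ) (t ≫ snd P X) h5
    have h7 : lift (t ≫ fst P X ≫ φ) (t ≫ snd P X) = t ≫ (φ ▷ X) := by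
      apply CartesianMonoidalCategory.hom_ext <;> simp [P]
    rw [h7, Category.assoc, Category.assoc] at h6
    obtain ⟨p, hp⟩ := (L02.SchDom.fac_diag _ _).2 h6
    refine ⟨p.left, ?_⟩
    rw [← Over.comp_left, hp]
    exact congrArg (fun m => Over.Hom.left m) (comp_lift t _ _).symm
  exact ⟨Over.homMk l (by
    rw [← Over.w (lift (𝟙 G) (𝟙 G) : G ⟶ G ⊗ G), reassoc_of% hl]
    exact Over.w ab), Over.OverMorphism.ext hl⟩

/-- one torsion subgroup has the same centralizer -/
theorem exists_torsion_centralizer {H G : Over S₀} [GrpObj H] [GrpObj G] (hH : SGA3x.IsMultTypeFT H)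
    [LocallyOfFiniteType G.hom] [QuasiCompact G.hom] [IsSeparated G.hom] (i : H ⟶ G) [IsMonHom i] :
    ∃ n : ℕ, 0 < n ∧ ∀ (X : Over S₀) (g : X ⟶ G),
      (∀ (X' : Over S₀) (x : X' ⟶ X) (h : X' ⟶ H), h ^ n = 1 → (x ≫ g) * (h ≫ i) = (h ≫ i) * (x ≫ g)) →
      ∀ (X' : Over S₀) (x : X' ⟶ X) (h : X' ⟶ H), (x ≫ g) * (h ≫ i) = (h ≫ i) * (x ≫ g) := by
  classical
  let E := {n : ℕ // 0 < n}
  let C : E → ∀ X : Over S₀, (X ⟶ G) → Prop := fun n X g =>
    ∀ (X' : Over S₀) (x : X' ⟶ X) (h : X' ⟶ H), h ^ n.1 = 1 → (x ≫ g) * (h ≫ i) = (h ≫ i) * (x ≫ g)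
  have hZ : ∀ n : E, ∃ (Z : Scheme.{u}) (t : Z ⟶ G.left), IsClosedImmersion t ∧
      ∀ (X : Over S₀) (g : X ⟶ G), (∃ w, w ≫ t = g.left) ↔ C n X g := by
    intro n
    obtain ⟨K, _, κ, hκm, -, hK, -, -, -, hκ⟩ := exists_torsion_subgroup hH n.2
    have := hκm
    obtain ⟨Z, _, j, hj, hjc, -, -⟩ := Locus.exists_centralizer (Locus.locally_of_multTypeFT hK) (κ ≫ i)
    refine ⟨Z.left, j.left, hjc, fun X g => Iff.trans ?_ ((hj.2.2 X g).trans ?_)⟩
    · exact ⟨fun ⟨w, hw⟩ => ⟨Over.homMk w (by rw [← Over.w j, reassoc_of% hw]; exact Over.w g),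
        Over.OverMorphism.ext hw⟩, fun ⟨w, hw⟩ => ⟨w.left, congrArg (fun m => Over.Hom.left m) hw⟩⟩
    · constructor
      · intro hc X' x h hh
        obtain ⟨w, rfl⟩ := (hκ X' h).2 hh
        simpa only [Category.assoc] using hc X' x w
      · intro hc X' x w
        have h1 := hc X' x (w ≫ κ) ((hκ X' _).1 ⟨w, rfl⟩)
        simpa only [Category.assoc] using h1
  choose Z t ht hZ using hZ
  have hmono : ∀ (n m : E), n.1 ∣ m.1 → (t n).ker ≤ (t m).ker := by
    intro n m hnm
    have := ht n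
    have := ht m
    let τ : Over.mk (t m ≫ G.hom) ⟶ G := Over.homMk (t m) rfl
    have hc : C m _ τ := (hZ m _ τ).1 ⟨𝟙 _, Category.id_comp _⟩
    refine (L02.SchDom.exists_factor_iff_ker_le _ _).1 ((hZ n _ τ).2 fun X' x h hh => hc X' x h ?_)
    obtain ⟨d, hd⟩ := hnm
    rw [hd, pow_mul, hh, one_pow]
  have hdir : Directed (· ≤ ·) fun n : E => (t n).ker := fun n m =>
    ⟨⟨n.1 * m.1, Nat.mul_pos n.2 m.2⟩, hmono _ _ (dvd_mul_right _ _), hmono _ _ (dvd_mul_left _ _)⟩
  have : IsLocallyNoetherian G.left := LocallyOfFiniteType.isLocallyNoetherian G.hom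
  have : CompactSpace G.left := QuasiCompact.compactSpace_of_compactSpace G.hom
  have : IsNoetherian G.left := ⟨⟩
  have : Nonempty E := ⟨⟨1, one_pos⟩⟩
  obtain ⟨n, hn⟩ := L02.SchDom.exists_ge_of_directed (fun n : E => (t n).ker) hdir
  refine ⟨n.1, n.2, fun X g hg X' x h => ?_⟩
  have hall : ∀ m : E, C m X g := fun m => by
    have := ht n
    have := ht m
    exact (hZ m X g).1 ((L02.SchDom.exists_factor_iff_ker_le _ _).2 ((hn m).trans
      ((L02.SchDom.exists_factor_iff_ker_le _ _).1 ((hZ n X g).2 hg))))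
  have key : (snd H X' ≫ x ≫ g) * (fst H X' ≫ i) = (fst H X' ≫ i) * (snd H X' ≫ x ≫ g) := by
    refine hom_ext_of_torsion hH _ _ fun m hm T h' x' hh' => ?_
    simp only [MonObj.comp_mul, lift_fst_assoc, lift_snd_assoc]
    have h1 := hall ⟨m, hm⟩ T (x' ≫ x) h' hh'
    simpa only [Category.assoc] using h1
  have h2 := congrArg (fun m => lift h (𝟙 X') ≫ m) key
  simpa only [MonObj.comp_mul, lift_fst_assoc, lift_snd_assoc, Category.id_comp] using h2

end Groth.L24.QuotAff
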