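import Groth.Agent.L24.QuotAff.Orbit
import Groth.Agent.L24.QuotAff.Torsion
import Groth.Agent.L25.HomScheme.Hom
import Groth.Agent.L25.Locus.CentNorm
import Groth.Agent.L20.Chevalley.Reduction
import Groth.Prelude.Def_RedSub
import Mathlib.AlgebraicGeometry.Sites.Fpqc
import Mathlib.AlgebraicGeometry.Morphisms.FlatDescent
import Mathlib.AlgebraicGeometry.Morphisms.FormallyUnramified
import Mathlib.AlgebraicGeometry.Morphisms.QuasiFinite

/-!
# Quotients by centralizers and normalizers of subgroups of multiplicative type are affine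
-/

set_option autoImplicit false
universe u

open CategoryTheory CategoryTheory.Limits MonoidalCategory CartesianMonoidalCategory MonObj GrpObj
open AlgebraicGeometry

set_option backward.isDefEq.respectTransparency false
set_option backward.isDefEq.respectTransparency.types false

noncomputable section

namespace Groth.L24.QuotAff

open Groth.L25

section Generic

variable {S : Scheme.{u}} {G : Over S}

/-- the residue field point of a point of a scheme over `S` -/
def resPt {X : Over S} (x : X.left) : Over.mk (X.left.fromSpecResidueField x ≫ X.hom) ⟶ X :=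
  Over.homMk (X.left.fromSpecResidueField x) rfl

theorem resPt_apply {X : Over S} (x : X.left) :
    (resPt x).left.base (IsLocalRing.closedPoint (X.left.residueField x)) = x :=
  Scheme.fromSpecResidueField_apply x _

theorem locallyQuasiFinite_of_unramified {X Y : Scheme.{u}} (f : X ⟶ Y) [FormallyUnramified f] [LocallyOfFiniteType f] :
    LocallyQuasiFinite f := by
  rw [HasRingHomProperty.iff_appLE (P := @LocallyQuasiFinite)]
  intro U V e
  have h1 := HasRingHomProperty.appLE @FormallyUnramified f inferInstance U V e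
  have h2 := HasRingHomProperty.appLE @LocallyOfFiniteType f inferInstance U V e
  algebraize [(f.appLE U.1 V.1 e).hom]
  have : Algebra.FormallyUnramified Γ(Y, U.1) Γ(X, V.1) := h1
  have : Algebra.FiniteType Γ(Y, U.1) Γ(X, V.1) := h2
  show Algebra.QuasiFinite Γ(Y, U.1) Γ(X, V.1)
  infer_instance

theorem rel_left {U U' : Over S} {o : G ⟶ U} {o' : G ⟶ U'}
    (h : ∀ (T : Over S) (g g' : T ⟶ G), g ≫ o = g' ≫ o → g ≫ o' = g' ≫ o')
    {Z : Scheme.{u}} (g₁ g₂ : Z ⟶ G.left) (e : g₁ ≫ o.left = g₂ ≫ o.left) :
    g₁ ≫ o'.left = g₂ ≫ o'.left := by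
  let T : Over S := Over.mk (g₁ ≫ G.hom)
  let a : T ⟶ G := Over.homMk g₁ rfl
  let b : T ⟶ G := Over.homMk g₂ (by
    show g₂ ≫ G.hom = g₁ ≫ G.hom
    rw [← Over.w o, reassoc_of% e])
  exact congrArg (fun m : T ⟶ U' => m.left) (h T a b (Over.OverMorphism.ext e))

/-- descent of a morphism along an effective epimorphism -/
theorem exists_desc {U U' : Over S} (o : G ⟶ U) (o' : G ⟶ U') [EffectiveEpi o.left]
    (h : ∀ (T : Over S) (g g' : T ⟶ G), g ≫ o = g' ≫ o → g ≫ o' = g' ≫ o') :
    ∃ π : U ⟶ U', o ≫ π = o' := by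
  let π₀ := EffectiveEpi.desc o.left o'.left fun g₁ g₂ e => rel_left h g₁ g₂ e
  have h₀ : o.left ≫ π₀ = o'.left := EffectiveEpi.fac o.left o'.left fun g₁ g₂ e => rel_left h g₁ g₂ e
  refine ⟨Over.homMk π₀ ?_, Over.OverMorphism.ext h₀⟩
  rw [← cancel_epi o.left, ← Category.assoc, h₀, Over.w o', Over.w o]

/-- two effective epimorphisms with the same relation have isomorphic targets -/
theorem exists_iso_of_rel {U U' : Over S} (o : G ⟶ U) (o' : G ⟶ U') [EffectiveEpi o.left] [EffectiveEpi o'.left]
    (h : ∀ (T : Over S) (g g' : T ⟶ G), g ≫ o = g' ≫ o ↔ g ≫ o' = g' ≫ o') :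
    ∃ π : U ⟶ U', IsIso π.left := by
  obtain ⟨π, hπ⟩ := exists_desc o o' fun T g g' => (h T g g').1
  obtain ⟨π', hπ'⟩ := exists_desc o' o fun T g g' => (h T g g').2
  refine ⟨π, ⟨π'.left, ?_, ?_⟩⟩
  · rw [← cancel_epi o.left, ← Category.assoc, ← Over.comp_left, hπ, ← Over.comp_left, hπ', Category.comp_id]
  · rw [← cancel_epi o'.left, ← Category.assoc, ← Over.comp_left, hπ', ← Over.comp_left, hπ, Category.comp_id]

variable [GrpObj G]

/-- the relation defined by a quotient -/
theorem quotient_rel {N Q : Over S} [GrpObj N] {n : N ⟶ G} {q : G ⟶ Q} (hq : RedSub.IsQuotient n q)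
    (T : Over S) (g g' : T ⟶ G) : g ≫ q = g' ≫ q ↔ ∃ z, z ≫ n = g⁻¹ * g' := by
  obtain ⟨-, -, -, hpb⟩ := hq
  have key : ∀ w : T ⟶ G ⊗ N, w ≫ (G ◁ n) ≫ μ[G] = (w ≫ fst G N) * (w ≫ snd G N ≫ n) := fun w => by
    rw [← Category.assoc, Hom.mul_def]
    congr 1
    apply CartesianMonoidalCategory.hom_ext <;> simp
  constructor
  · intro e
    refine ⟨hpb.lift g g' e ≫ snd G N, ?_⟩
    have h1 := (hpb.lift_snd g g' e).symm.trans ((key (hpb.lift g g' e)).trans
      (congrArg (fun m => m * (hpb.lift g g' e ≫ snd G N ≫ n)) (hpb.lift_fst g g' e)))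
    rw [Category.assoc, eq_inv_mul_iff_mul_eq]
    exact h1.symm
  · rintro ⟨z, hz⟩
    have h1 := congrArg (fun m => lift g z ≫ m) hpb.w
    simp only [← Category.assoc, lift_fst] at h1
    simp only [Category.assoc] at h1
    rw [h1, ← Category.assoc (lift g z), ← Category.assoc (lift g z ≫ (G ◁ n)), Category.assoc (lift g z), key]
    rw [lift_fst, lift_snd_assoc, hz, mul_inv_cancel_left]

end Generic

variable {k : Type u} [Field k]

variable {G H : Over (Spec (CommRingCat.of k))} [GrpObj G] [GrpObj H]

/-- factorization of a smooth morphism through its image, when this is closed -/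
theorem exists_image {X Y : Over (Spec (CommRingCat.of k))} (o₀ : X ⟶ Y) [Smooth o₀.left] (hcl : IsClosed (Set.range o₀.left)) :
    ∃ (U : Over (Spec (CommRingCat.of k))) (ιU : U ⟶ Y) (o : X ⟶ U), IsOpenImmersion ιU.left ∧ IsClosedImmersion ιU.left ∧ o ≫ ιU = o₀ ∧
      Smooth o.left ∧ Surjective o.left := by
  let V : Y.left.Opens := ⟨Set.range o₀.left, o₀.left.isOpenMap.isOpen_range⟩
  have hUr : Set.range V.ι = Set.range o₀.left := Scheme.Opens.range_ι V
  let U : Over (Spec (CommRingCat.of k)) := Over.mk (V.ι ≫ Y.hom)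
  let ιU : U ⟶ Y := Over.homMk V.ι rfl
  obtain ⟨o₁, ho₁⟩ : ∃ o₁ : X.left ⟶ (V : Scheme.{u}), o₁ ≫ V.ι = o₀.left :=
    ⟨IsOpenImmersion.lift V.ι o₀.left hUr.ge, IsOpenImmersion.lift_fac _ _ _⟩
  let o : X ⟶ U := Over.homMk o₁ (by
    show o₁ ≫ V.ι ≫ Y.hom = X.hom
    rw [← Category.assoc, ho₁, Over.w o₀])
  have hpb : IsPullback o₁ (𝟙 X.left) V.ι o₀.left :=
    IsPullback.of_isLimit (PullbackCone.IsLimit.mk (by rw [ho₁, Category.id_comp]) (fun c => c.snd)
      (fun c => by rw [← cancel_mono V.ι, Category.assoc, ho₁, c.condition])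
      (fun c => Category.comp_id _)
      (fun c m _ h₂ => by rw [← h₂, Category.comp_id]))
  refine ⟨U, ιU, o, inferInstanceAs (IsOpenImmersion V.ι),
    IsClosedImmersion.of_isPreimmersion V.ι (hUr ▸ hcl), Over.OverMorphism.ext ho₁,
    MorphismProperty.of_isPullback hpb.flip ‹Smooth o₀.left›, ⟨fun y => ?_⟩⟩
  obtain ⟨x, hx⟩ : V.ι y ∈ Set.range o₀.left := hUr ▸ ⟨y, rfl⟩
  refine ⟨x, V.ι.isOpenEmbedding.injective ?_⟩
  rw [← hx, ← ho₁]
  rfl

/-- a morphism from a product which lands in an open subscheme on the image of a covering -/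
theorem range_le_of_cover {X T U A : Over (Spec (CommRingCat.of k))} {o : X ⟶ U} [Surjective o.left] (a : T ⊗ U ⟶ A) (ιU : U ⟶ A)
    (d : T ⊗ X ⟶ U) (hd : (T ◁ o) ≫ a = d ≫ ιU) : Set.range a.left ⊆ Set.range ιU.left := by
  rintro _ ⟨x, rfl⟩
  obtain ⟨y, hy⟩ := o.left.surjective ((snd T U).left x)
  obtain ⟨z, hzx, -⟩ := Scheme.Pullback.exists_preimage_pullback x y
    (f := (snd T U).left) (g := o.left) hy.symm
  let L : Over (Spec (CommRingCat.of k)) := Over.mk (pullback.fst (snd T U).left o.left ≫ (T ⊗ U).hom)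
  let l₁ : L ⟶ T ⊗ U := Over.homMk (pullback.fst _ _) rfl
  let l₂ : L ⟶ X := Over.homMk (pullback.snd (snd T U).left o.left) (by
    show _ = pullback.fst (snd T U).left o.left ≫ (T ⊗ U).hom
    rw [← Over.w (snd T U), pullback.condition_assoc, Over.w o])
  have hl : l₁ ≫ snd T U = l₂ ≫ o := Over.OverMorphism.ext pullback.condition
  have h1 : lift (l₁ ≫ fst T U) l₂ ≫ (T ◁ o) = l₁ := by
    apply CartesianMonoidalCategory.hom_ext <;> simp [hl]
  have h2 : l₁ ≫ a = (lift (l₁ ≫ fst T U) l₂ ≫ d) ≫ ιU := by
    rw [Category.assoc, ← hd, ← Category.assoc, h1]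
  refine ⟨(lift (l₁ ≫ fst T U) l₂ ≫ d).left z, ?_⟩
  have h3 := congrArg (fun m : L ⟶ A => m.left.base z) h2
  refine h3.symm.trans ?_
  exact congrArg a.left hzx

/-- The orbit of a point of a scheme of homomorphisms. -/
theorem exists_orbit_of_rep [Smooth G.hom] [IsSeparated G.hom] {K A : Over (Spec (CommRingCat.of k))} [GrpObj K] [IsAffine A.left]
    [LocallyOfFiniteType A.hom] (hK : SGA3x.IsMultTypeFT K) {υ : K ⊗ A ⟶ G}
    (hA : AutFam.RepresentsHom K G A υ) (u : 𝟙_ (Over (Spec (CommRingCat.of k))) ⟶ A) :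
    ∃ (U : Over (Spec (CommRingCat.of k))) (o : G ⟶ U) (ψ : G ⊗ U ⟶ U), IsAffine U.left ∧ LocallyOfFiniteType U.hom ∧
      Smooth o.left ∧ Surjective o.left ∧
      (∀ (T : Over (Spec (CommRingCat.of k))) (g g' : T ⟶ G), (g * g') ≫ o = lift g (g' ≫ o) ≫ ψ) ∧
      ∀ (T : Over (Spec (CommRingCat.of k))) (g g' : T ⟶ G),
        g ≫ o = g' ≫ o ↔ conj hA (g⁻¹ * g') (toUnit T ≫ u) = toUnit T ≫ u := by
  have : Smooth (orbit hA u).left := smooth_orbit hA (Locus.locally_of_multTypeFT hK) u
  obtain ⟨U, ιU, o, hιo, hιc, ho, hosm, hos⟩ :=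
    exists_image (orbit hA u) (isClosed_range_orbit hA (Locus.locally_of_multTypeFT hK) u)
  have := hιo; have := hos
  have : Mono ιU := Over.mono_of_mono_left ιU
  let a : G ⊗ U ⟶ A := conj hA (fst G U) (snd G U ≫ ιU)
  have hd : (G ◁ o) ≫ a = ((fst G G * snd G G) ≫ o) ≫ ιU := by
    rw [Category.assoc, ho, comp_orbit, comp_conj, whiskerLeft_fst, whiskerLeft_snd_assoc, ho,
      comp_orbit, conj_conj]
  have hrg := range_le_of_cover a ιU _ hd
  let ψ : G ⊗ U ⟶ U := Over.homMk (IsOpenImmersion.lift ιU.left a.left hrg) (by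
    rw [← Over.w ιU, IsOpenImmersion.lift_fac_assoc, Over.w a])
  have hψι : ψ ≫ ιU = a := Over.OverMorphism.ext (IsOpenImmersion.lift_fac _ _ _)
  refine ⟨U, o, ψ, isAffine_of_isAffineHom ιU.left, ?_, hosm, hos, fun T g g' => ?_, fun T g g' => ?_⟩
  · rw [← Over.w ιU]
    infer_instance
  · rw [← cancel_mono ιU, Category.assoc, Category.assoc, ho, hψι, comp_conj, lift_fst, lift_snd_assoc,
      Category.assoc, ho, comp_orbit, comp_orbit, conj_conj]
  · rw [← cancel_mono ιU, Category.assoc, Category.assoc, ho, eq_comm, comp_orbit, comp_orbit, conj_eq_conj_iff]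

/-- The orbit of a homomorphism: an affine homogeneous space with the centralizer as isotropy group. -/
theorem exists_orbit [Smooth G.hom] [QuasiCompact G.hom] [IsAffine G.left] (hH : SGA3x.IsMultTypeFT H)
    (h : H ⟶ G) [IsMonHom h] {C : Over (Spec (CommRingCat.of k))} [GrpObj C] (c : C ⟶ G) (hC : Red.IsCentralizerOf h c) :
    ∃ (U : Over (Spec (CommRingCat.of k))) (o : G ⟶ U) (ψ : G ⊗ U ⟶ U), IsAffine U.left ∧ LocallyOfFiniteType U.hom ∧
      Smooth o.left ∧ Surjective o.left ∧
      (∀ (T : Over (Spec (CommRingCat.of k))) (g g' : T ⟶ G), (g * g') ≫ o = lift g (g' ≫ o) ≫ ψ) ∧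
      ∀ (T : Over (Spec (CommRingCat.of k))) (g g' : T ⟶ G), g ≫ o = g' ≫ o ↔ ∃ z, z ≫ c = g⁻¹ * g' := by
  have : IsAffineHom G.hom := isAffineHom_of_isAffine _
  obtain ⟨n, hn, hcent⟩ := exists_torsion_centralizer hH h
  obtain ⟨K, _, κ, hκm, -, hK, hKf, hKfl, hKfp, hκ⟩ := exists_torsion_subgroup hH hn
  have := hκm; have := hKf; have := hKfl; have := hKfp
  obtain ⟨A, υ, hA, hAaff, hAlft, -⟩ := HomScheme.exists_representsHom K G
  have := hAaff
  have := hAlft inferInstance
  have : IsAffine A.left := isAffine_of_isAffineHom A.hom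
  obtain ⟨u, hu, -⟩ := hA.2 (𝟙_ (Over (Spec (CommRingCat.of k)))) (fst K (𝟙_ (Over (Spec (CommRingCat.of k)))) ≫ κ ≫ h) fun X g₁ g₂ t => by
    simp only [lift_fst_assoc, MonObj.mul_comp]
  have hval : ∀ {T : Over (Spec (CommRingCat.of k))} (p : T ⟶ K), lift p (toUnit T ≫ u) ≫ υ = p ≫ κ ≫ h := fun {T} p => by
    rw [← lift_whiskerLeft_assoc, hu, lift_fst_assoc]
  obtain ⟨U, o, ψ, hUa, hUft, hosm, hos, hlaw, hrel⟩ := exists_orbit_of_rep hK hA u
  refine ⟨U, o, ψ, hUa, hUft, hosm, hos, hlaw, fun T g g' => (hrel T g g').trans ?_⟩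
  rw [conj_eq_iff, hC.2.2 T (g⁻¹ * g')]
  constructor
  · intro e
    refine hcent T (g⁻¹ * g') fun X' x p hp => ?_
    obtain ⟨w, rfl⟩ := (hκ X' p).2 hp
    have h1 := e X' x w
    rw [← Category.assoc x, toUnit_unique (x ≫ toUnit T) (toUnit X'), hval, mul_inv_eq_iff_eq_mul] at h1
    simpa only [Category.assoc] using h1
  · intro e X' x w
    rw [← Category.assoc x, toUnit_unique (x ≫ toUnit T) (toUnit X'), hval, mul_inv_eq_iff_eq_mul]
    simpa only [Category.assoc] using e X' x (w ≫ κ)

/-- the quotient by the centralizer is affine -/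
theorem isAffine_quotient_centralizer [Smooth G.hom] [QuasiCompact G.hom] [IsAffine G.left]
    (hH : SGA3x.IsMultTypeFT H) (h : H ⟶ G) [IsMonHom h] {C : Over (Spec (CommRingCat.of k))} [GrpObj C] (c : C ⟶ G)
    (hC : Red.IsCentralizerOf h c) (Q : Over (Spec (CommRingCat.of k))) (q : G ⟶ Q) (hq : RedSub.IsQuotient c q) :
    IsAffine Q.left := by
  obtain ⟨U, o, -, hUa, -, hsm, hos, -, hrel⟩ := exists_orbit hH h c hC
  have := hsm; have := hos; have := hUa
  have := hq.1; have := hq.2.1; have := hq.2.2.1
  obtain ⟨π, hπ⟩ := exists_iso_of_rel q o fun T g g' => (quotient_rel hq T g g').trans (hrel T g g').symm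
  exact IsAffine.of_isIso π.left

/-- the quotient by the normalizer is affine -/
theorem isAffine_quotient_normalizer [Smooth G.hom] [QuasiCompact G.hom] [IsAffine G.left]
    (hH : SGA3x.IsMultTypeFT H) (h : H ⟶ G) [IsMonHom h] [Mono h] {C N : Over (Spec (CommRingCat.of k))} [GrpObj C] [GrpObj N]
    (c : C ⟶ G) (n : N ⟶ G) (hC : Red.IsCentralizerOf h c) (hN : Red.IsNormalizerOf h n)
    (Q : Over (Spec (CommRingCat.of k))) (q : G ⟶ Q) (hq : RedSub.IsQuotient n q) : IsAffine Q.left := by
  classical
  have : IsAffineHom G.hom := isAffineHom_of_isAffine _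
  obtain ⟨U, o, ψ, hUa, hUft, hsm, hos, hlaw, hrel⟩ := exists_orbit hH h c hC
  have := hsm; have := hos; have := hUa; have := hUft
  have := hq.1; have := hq.2.1; have := hq.2.2.1
  have := hN.1; have := hN.2.1
  have : IsClosedImmersion n.left := Locus.isClosedImmersion_normalizer hH h n hN
  obtain ⟨f, hf, hfo, -⟩ := Locus.exists_clopen_centralizer hH h c n hC hN
  have := hfo
  have : Mono f := Over.mono_of_mono_left f
  -- the projection onto the quotient by the normalizer
  obtain ⟨π, hπ⟩ := exists_desc o q fun T g g' e => by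
    obtain ⟨z, hz⟩ := (hrel T g g').1 e
    exact (quotient_rel hq T g g').2 ⟨z ≫ f, by rw [Category.assoc, hf, hz]⟩
  have : Surjective π.left := by
    have : Surjective (o.left ≫ π.left) := by rw [← Over.comp_left, hπ]; exact hq.1
    exact Surjective.of_comp o.left π.left
  suffices UniversallyClosed π.left from Groth.L20.Chevalley.isAffine_of_surjective_universallyClosed π.left
  -- the fibre over the origin
  let e : Spec (CommRingCat.of k) ⟶ Q.left := η[G].left ≫ q.left
  have hηh : η[G].left ≫ G.hom = 𝟙 _ := Over.w η[G]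
  have he : e ≫ Q.hom = 𝟙 _ := by
    rw [Category.assoc, Over.w q]
    exact hηh
  let w₁ := pullback.fst π.left e
  let s := pullback.snd π.left e
  have hone : ∀ T : Over (Spec (CommRingCat.of k)), (1 : T ⟶ G).left = T.hom ≫ η[G].left := fun T => MonoFibres.one_left
  have hnq : n.left ≫ q.left = N.hom ≫ e := by
    have h1 : (1 : N ⟶ G) ≫ q = n ≫ q :=
      (quotient_rel hq N 1 n).2 ⟨𝟙 N, by rw [Category.id_comp, inv_one, _root_.one_mul]⟩
    have h2 := congrArg (fun m : N ⟶ Q => m.left) h1
    simp only [Over.comp_left, hone] at h2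
    rw [← h2, Category.assoc]
  have hπl : o.left ≫ π.left = q.left := congrArg (fun m : G ⟶ Q => m.left) hπ
  let r : N.left ⟶ pullback π.left e := pullback.lift (n.left ≫ o.left) N.hom (by
    rw [Category.assoc, hπl, hnq])
  have hbig : IsPullback n.left N.hom q.left e := by
    have hex : ∀ cn : PullbackCone q.left e, ∃ z : cn.pt ⟶ N.left, z ≫ n.left = cn.fst ∧ z ≫ N.hom = cn.snd := by
      intro cn
      let T : Over (Spec (CommRingCat.of k)) := Over.mk cn.snd
      let g : T ⟶ G := Over.homMk cn.fst (by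
        show cn.fst ≫ G.hom = cn.snd
        rw [← Over.w q, ← Category.assoc, cn.condition, Category.assoc, he, Category.comp_id])
      obtain ⟨z, hz⟩ := (quotient_rel hq T 1 g).1 (by
        apply Over.OverMorphism.ext
        rw [Over.comp_left, Over.comp_left, hone]
        show (cn.snd ≫ η[G].left) ≫ q.left = cn.fst ≫ q.left
        rw [Category.assoc]
        exact cn.condition.symm)
      rw [inv_one, _root_.one_mul] at hz
      exact ⟨z.left, congrArg (fun m : T ⟶ G => m.left) hz, Over.w z⟩
    exact IsPullback.of_isLimit (PullbackCone.IsLimit.mk hnq (fun cn => (hex cn).choose)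
      (fun cn => (hex cn).choose_spec.1) (fun cn => (hex cn).choose_spec.2)
      fun cn m h₁ _ => by rw [← cancel_mono n.left, h₁, (hex cn).choose_spec.1])
  have hr : IsPullback n.left r o.left w₁ := by
    refine IsPullback.of_bot ?_ (pullback.lift_fst _ _ _).symm (IsPullback.of_hasPullback π.left e)
    rw [pullback.lift_snd, hπl]
    exact hbig
  have : Smooth r := MorphismProperty.of_isPullback hr hsm
  have : Surjective r := MorphismProperty.of_isPullback hr hos
  have hrs : r ≫ s = N.hom := pullback.lift_snd _ _ _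
  -- the fibre is finite
  have : IsFinite s := by
    have hdiag : IsOpenImmersion (pullback.diagonal s) := by
      let m := pullback.map r r (r ≫ s) (r ≫ s) (𝟙 _) (𝟙 _) s (Category.id_comp _).symm (Category.id_comp _).symm
      have hm : IsOpenImmersion m := by
        let δ : N ⊗ N ⟶ N := (fst N N)⁻¹ * snd N N
        have : IsOpenImmersion f.left := hfo
        let φ := pullback.map (r ≫ s) (r ≫ s) N.hom N.hom (𝟙 _) (𝟙 _) (𝟙 _)
          (by rw [Category.comp_id, hrs, Category.id_comp]) (by rw [Category.comp_id, hrs, Category.id_comp])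
        let D : Over (Spec (CommRingCat.of k)) := Over.mk (pullback.fst δ.left f.left ≫ (N ⊗ N).hom)
        let j : D ⟶ N ⊗ N := Over.homMk (pullback.fst δ.left f.left) rfl
        have : IsOpenImmersion j.left := inferInstanceAs (IsOpenImmersion (pullback.fst δ.left f.left))
        let R : Over (Spec (CommRingCat.of k)) := Over.mk ((m ≫ φ) ≫ (N ⊗ N).hom)
        let mR : R ⟶ N ⊗ N := Over.homMk (m ≫ φ) rfl
        have hδ : ∀ {T : Over (Spec (CommRingCat.of k))} (x y : T ⟶ N), lift x y ≫ δ = x⁻¹ * y := fun x y => by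
          simp only [δ, MonObj.comp_mul, GrpObj.comp_inv, lift_fst, lift_snd]
        have hiff : ∀ {T : Over (Spec (CommRingCat.of k))} (x y : T ⟶ N),
            x.left ≫ r = y.left ≫ r ↔ ∃ z, z ≫ f = x⁻¹ * y := by
          intro T x y
          have h1 : x.left ≫ r = y.left ≫ r ↔ (x ≫ n) ≫ o = (y ≫ n) ≫ o := by
            constructor
            · intro e1
              apply Over.OverMorphism.ext
              have e2 := congrArg (· ≫ w₁) e1
              simp only [r, w₁, Category.assoc, pullback.lift_fst] at e2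
              simpa only [Over.comp_left, Category.assoc] using e2
            · intro e1
              have e2 := congrArg (fun m : T ⟶ U => m.left) e1
              simp only [Over.comp_left, Category.assoc] at e2
              apply pullback.hom_ext
              · simpa only [r, Category.assoc, pullback.lift_fst] using e2
              · simp only [r, Category.assoc, pullback.lift_snd, Over.w]
          rw [h1, hrel]
          have h2 : (x ≫ n)⁻¹ * y ≫ n = (x⁻¹ * y) ≫ n := by rw [MonObj.mul_comp, GrpObj.inv_comp]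
          rw [h2]
          exact exists_congr fun z => by rw [← hf, ← Category.assoc, cancel_mono]
        have hp1 : (mR ≫ fst N N).left = pullback.fst r r := by
          show (m ≫ φ) ≫ pullback.fst N.hom N.hom = _
          simp [m, φ]
        have hp2 : (mR ≫ snd N N).left = pullback.snd r r := by
          show (m ≫ φ) ≫ pullback.snd N.hom N.hom = _
          simp [m, φ]
        obtain ⟨z, hz⟩ := (hiff (mR ≫ fst N N) (mR ≫ snd N N)).1 (by rw [hp1, hp2, pullback.condition])
        have hz' : z ≫ f = mR ≫ δ := by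
          rw [hz, ← hδ, ← comp_lift, lift_fst_snd, Category.comp_id]
        let a : R ⟶ D := Over.homMk (pullback.lift mR.left z.left
          (congrArg (fun m : R ⟶ N => m.left) hz').symm) (by
          show _ ≫ pullback.fst δ.left f.left ≫ (N ⊗ N).hom = _
          rw [pullback.lift_fst_assoc]
          rfl)
        have haj : a ≫ j = mR := Over.OverMorphism.ext (pullback.lift_fst _ _ _)
        let zD : D ⟶ C := Over.homMk (pullback.snd δ.left f.left) (by
          show _ = pullback.fst δ.left f.left ≫ (N ⊗ N).hom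
          rw [← Over.w δ, pullback.condition_assoc, Over.w f])
        have hzD : (j ≫ fst N N).left ≫ r = (j ≫ snd N N).left ≫ r := (hiff _ _).2 ⟨zD, by
          rw [← hδ, ← comp_lift, lift_fst_snd, Category.comp_id]
          exact Over.OverMorphism.ext pullback.condition.symm⟩
        let b := pullback.lift (f := r) (g := r) _ _ hzD
        have hb : b ≫ m ≫ φ = j.left := by
          apply pullback.hom_ext
          · simp only [b, Category.assoc]
            rw [show m ≫ φ ≫ pullback.fst N.hom N.hom = pullback.fst r r by simp [m, φ], pullback.lift_fst]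
            rfl
          · simp only [b, Category.assoc]
            rw [show m ≫ φ ≫ pullback.snd N.hom N.hom = pullback.snd r r by simp [m, φ], pullback.lift_snd]
            rfl
        have haj' : a.left ≫ j.left = m ≫ φ := congrArg (fun q : R ⟶ N ⊗ N => q.left) haj
        have : IsIso a.left := by
          refine ⟨b, ?_, ?_⟩
          · apply pullback.hom_ext
            · rw [Category.assoc]
              simp only [b, pullback.lift_fst]
              rw [← hp1]
              show a.left ≫ j.left ≫ (fst N N).left = _ ≫ (mR ≫ fst N N).left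
              rw [← Category.assoc, haj', Category.id_comp]
              rfl
            · rw [Category.assoc]
              simp only [b, pullback.lift_snd]
              rw [← hp2]
              show a.left ≫ j.left ≫ (snd N N).left = _ ≫ (mR ≫ snd N N).left
              rw [← Category.assoc, haj', Category.id_comp]
              rfl
          · rw [← cancel_mono j.left, Category.assoc, haj', hb]
            exact (Category.id_comp _).symm
        have : IsOpenImmersion (m ≫ φ) := by rw [← haj']; infer_instance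
        have hφi : IsIso φ := inferInstance
        exact (MorphismProperty.cancel_right_of_respectsIso @IsOpenImmersion m φ).1 this
      have hsq := pullback_map_diagonal_isPullback r r s
      let ρ := pullback.map (r ≫ s) (r ≫ s) s s r r (𝟙 _) (Category.comp_id _) (Category.comp_id _)
      have hρ : (@Surjective ⊓ @Flat ⊓ @LocallyOfFinitePresentation : MorphismProperty Scheme.{u}) ρ :=
        ⟨⟨MorphismProperty.pullbackMap (P := @Surjective) ‹Surjective r› ‹Surjective r› rfl rfl,
          MorphismProperty.pullbackMap (P := @Flat) (inferInstanceAs (Flat r)) (inferInstanceAs (Flat r)) rfl rfl⟩,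
          MorphismProperty.pullbackMap (P := @LocallyOfFinitePresentation)
            (inferInstanceAs (LocallyOfFinitePresentation r)) (inferInstanceAs (LocallyOfFinitePresentation r)) rfl rfl⟩
      exact MorphismProperty.of_isPullback_of_descendsAlong hsq.flip hρ hm
    have : LocallyOfFiniteType π.left := by
      have : LocallyOfFiniteType (π.left ≫ Q.hom) := by rw [Over.w π]; exact hUft
      exact locallyOfFiniteType_of_comp π.left Q.hom
    have : LocallyOfFiniteType s := MorphismProperty.pullback_snd π.left e this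
    have : CompactSpace N.left :=
      n.left.isClosedEmbedding.compactSpace
    have : CompactSpace (pullback π.left e : Scheme.{u}) := r.surjective.compactSpace r.continuous
    have : QuasiCompact s := HasAffineProperty.iff_of_isAffine.2 ‹CompactSpace _›
    have : FormallyUnramified s := inferInstance
    have : LocallyQuasiFinite s := locallyQuasiFinite_of_unramified s
    exact IsFinite.of_locallyQuasiFinite s
  -- the pullback along the projection
  suffices hP : UniversallyClosed (pullback.fst q.left π.left) from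
    MorphismProperty.of_isPullback_of_descendsAlong (P := @UniversallyClosed)
      (Q := @Surjective ⊓ @Flat ⊓ @LocallyOfFinitePresentation)
      (IsPullback.of_hasPullback q.left π.left) ⟨⟨hq.1, hq.2.1⟩, hq.2.2.1⟩ hP
  let W : Over (Spec (CommRingCat.of k)) := Over.mk s
  let ω : W ⟶ U := Over.homMk w₁ (by
    show w₁ ≫ U.hom = s
    rw [← Over.w π, pullback.condition_assoc, he, Category.comp_id])
  let γ : G ⊗ W ⟶ U := lift (fst G W) (snd G W ≫ ω) ≫ ψ
  let r' : N ⟶ W := Over.homMk r hrs
  let θ : G ⊗ N ⟶ G ⊗ W := G ◁ r'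
  have hθγ : θ ≫ γ = (fst G N * (snd G N ≫ n)) ≫ o := by
    rw [hlaw]
    simp only [θ, γ, ← Category.assoc, comp_lift]
    congr 2
    · simp
    · rw [whiskerLeft_snd, Category.assoc, Category.assoc]
      congr 1
      exact Over.OverMorphism.ext (pullback.lift_fst _ _ _)
  have hθπ : θ ≫ γ ≫ π = θ ≫ fst G W ≫ q := by
    rw [← Category.assoc, hθγ, Category.assoc, hπ, whiskerLeft_fst_assoc]
    exact ((quotient_rel hq _ _ _).2 ⟨snd G N, by rw [inv_mul_cancel_left]⟩).symm
  have hθl : θ.left = pullback.map G.hom N.hom G.hom W.hom (𝟙 _) r (𝟙 _) (by simp) (by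
      rw [Category.comp_id]; exact hrs.symm) := by
    apply pullback.hom_ext
    · refine Eq.trans ?_ (pullback.lift_fst _ _ _).symm
      exact (congrArg (fun m : G ⊗ N ⟶ G => m.left) (whiskerLeft_fst G r')).trans (Category.comp_id _).symm
    · refine Eq.trans ?_ (pullback.lift_snd _ _ _).symm
      exact congrArg (fun m : G ⊗ N ⟶ W => m.left) (whiskerLeft_snd G r')
  have : Smooth θ.left := by
    rw [hθl]
    exact MorphismProperty.pullbackMap (P := @Smooth) (inferInstanceAs (Smooth (𝟙 G.left))) ‹Smooth r›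
      (Category.id_comp _).symm hrs.symm
  have : Surjective θ.left := by
    rw [hθl]
    exact MorphismProperty.pullbackMap (P := @Surjective) (inferInstanceAs (Surjective (𝟙 G.left))) ‹Surjective r›
      (Category.id_comp _).symm hrs.symm
  have hγπ : (γ ≫ π).left = (fst G W ≫ q).left :=
    (cancel_epi θ.left).1 (congrArg (fun m : G ⊗ N ⟶ Q => m.left) hθπ)
  let Φ : (G ⊗ W).left ⟶ pullback q.left π.left := pullback.lift (fst G W).left γ.left hγπ.symm
  have : Surjective Φ := ⟨fun p => by
    obtain ⟨g', hg'⟩ := hos.surj (pullback.snd q.left π.left p)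
    obtain ⟨z, hzp, -⟩ := Scheme.Pullback.exists_preimage_pullback p g'
      (f := pullback.snd q.left π.left) (g := o.left) hg'.symm
    let L := pullback (pullback.snd q.left π.left) o.left
    let T : Over (Spec (CommRingCat.of k)) := Over.mk ((pullback.fst (pullback.snd q.left π.left) o.left ≫ pullback.fst q.left π.left) ≫ G.hom)
    let a : T ⟶ G := Over.homMk (pullback.fst _ _ ≫ pullback.fst _ _) rfl
    let b : T ⟶ G := Over.homMk (pullback.snd (pullback.snd q.left π.left) o.left) (by
      show _ = (_ ≫ _) ≫ G.hom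
      rw [← Over.w q, Category.assoc, pullback.condition_assoc, ← reassoc_of% hπl, ← pullback.condition_assoc])
    have hab : a ≫ q = b ≫ q := by
      apply Over.OverMorphism.ext
      show (_ ≫ _) ≫ q.left = pullback.snd _ _ ≫ q.left
      rw [Category.assoc, pullback.condition, ← hπ, Over.comp_left, ← pullback.condition_assoc]
    obtain ⟨d, hd⟩ := (quotient_rel hq T a b).1 hab
    let v : T ⟶ G ⊗ N := lift a d
    have hv : (v ≫ θ).left ≫ Φ = pullback.fst (pullback.snd q.left π.left) o.left := by
      apply pullback.hom_ext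
      · rw [Category.assoc, pullback.lift_fst, ← Over.comp_left, Category.assoc, whiskerLeft_fst, lift_fst]
        rfl
      · rw [Category.assoc, pullback.lift_snd, ← Over.comp_left, Category.assoc, hθγ, ← Category.assoc,
          MonObj.comp_mul, lift_fst, lift_snd_assoc, hd, mul_inv_cancel_left]
        exact pullback.condition.symm
    refine ⟨(v ≫ θ).left z, ?_⟩
    have := congrArg (fun m : L ⟶ pullback q.left π.left => m.base z) hv
    exact this.trans hzp⟩
  have : UniversallyClosed (fst G W).left := by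
    have : IsFinite W.hom := ‹IsFinite s›
    exact inferInstanceAs (UniversallyClosed (pullback.fst G.hom W.hom))
  have : UniversallyClosed (Φ ≫ pullback.fst q.left π.left) := by rw [pullback.lift_fst]; infer_instance
  exact UniversallyClosed.of_comp_surjective Φ _

end Groth.L24.QuotAff
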