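import Groth.Agent.L25.Locus.Transporter
import Groth.Agent.L25.Bridge.TorsionLift
import Groth.Prelude.Def_AutFam
import Mathlib.AlgebraicGeometry.Morphisms.UniversallyOpen

/-!
# Orbits in a scheme of homomorphisms out of a group of multiplicative type

For a smooth separated group `G` acting by conjugation on a representing scheme `A` of `Hom(K, G)`, with `K`
of multiplicative type, the orbit maps are smooth, and over a field their images are open and closed.
-/

set_option autoImplicit false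
universe u

open CategoryTheory CategoryTheory.Limits MonoidalCategory CartesianMonoidalCategory MonObj GrpObj
open AlgebraicGeometry

set_option backward.isDefEq.respectTransparency false
set_option backward.isDefEq.respectTransparency.types false

noncomputable section

namespace Groth.L24.QuotAff

open Groth.L25

section Conj

variable {S : Scheme.{u}} {K G A : Over S} [GrpObj K] [GrpObj G] {υ : K ⊗ A ⟶ G}
  (hA : AutFam.RepresentsHom K G A υ)

include hA in
theorem lift_mul_υ {T : Over S} (h₁ h₂ : T ⟶ K) (a : T ⟶ A) :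
    lift (h₁ * h₂) a ≫ υ = (lift h₁ a ≫ υ) * (lift h₂ a ≫ υ) := hA.1 T h₁ h₂ a

include hA in
/-- a point of the representing scheme is determined by its homomorphism -/
theorem pt_ext {T : Over S} {a b : T ⟶ A}
    (e : ∀ (T' : Over S) (x : T' ⟶ T) (h : T' ⟶ K), lift h (x ≫ a) ≫ υ = lift h (x ≫ b) ≫ υ) : a = b := by
  have hf : AutFam.IsHomFamily K G ((K ◁ a) ≫ υ) := fun X h₁ h₂ t => by
    simp only [lift_whiskerLeft_assoc]
    exact lift_mul_υ hA _ _ _
  obtain ⟨_, -, huniq⟩ := hA.2 T _ hf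
  have h1 : (K ◁ a) ≫ υ = (K ◁ b) ≫ υ := by
    have h2 := e (K ⊗ T) (snd K T) (fst K T)
    have h3 : ∀ c : T ⟶ A, lift (fst K T) (snd K T ≫ c) = K ◁ c := fun c => by
      apply CartesianMonoidalCategory.hom_ext <;> simp
    rwa [h3, h3] at h2
  exact (huniq a rfl).trans (huniq b h1.symm).symm

variable (K G υ) in
/-- the conjugated universal family -/
def conjFam : K ⊗ (G ⊗ A) ⟶ G :=
  (snd K (G ⊗ A) ≫ fst G A) * ((K ◁ snd G A) ≫ υ) * (snd K (G ⊗ A) ≫ fst G A)⁻¹

theorem lift_conjFam {T : Over S} (h : T ⟶ K) (p : T ⟶ G ⊗ A) :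
    lift h p ≫ conjFam K G υ = (p ≫ fst G A) * (lift h (p ≫ snd G A) ≫ υ) * (p ≫ fst G A)⁻¹ := by
  simp only [conjFam, MonObj.comp_mul, GrpObj.comp_inv, lift_snd_assoc, lift_whiskerLeft_assoc]

include hA in
theorem exists_act : ∃ act : G ⊗ A ⟶ A, (K ◁ act) ≫ υ = conjFam K G υ :=
  (hA.2 (G ⊗ A) (conjFam K G υ) fun X h₁ h₂ t => by
    rw [lift_conjFam, lift_conjFam, lift_conjFam, lift_mul_υ hA]
    group).exists

/-- the action by conjugation -/
def act : G ⊗ A ⟶ A := (exists_act hA).choose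

/-- the conjugate of a point of `A` -/
def conj {T : Over S} (g : T ⟶ G) (a : T ⟶ A) : T ⟶ A := lift g a ≫ act hA

theorem lift_conj {T T' : Over S} (g : T ⟶ G) (a : T ⟶ A) (x : T' ⟶ T) (h : T' ⟶ K) :
    lift h (x ≫ conj hA g a) ≫ υ = (x ≫ g) * (lift h (x ≫ a) ≫ υ) * (x ≫ g)⁻¹ := by
  have h1 := congrArg (fun m => lift h (x ≫ lift g a) ≫ m) (exists_act hA).choose_spec
  simp only [lift_whiskerLeft_assoc, lift_conjFam, Category.assoc, lift_fst, lift_snd] at h1
  rw [conj]
  exact h1

theorem comp_conj {T T' : Over S} (x : T' ⟶ T) (g : T ⟶ G) (a : T ⟶ A) :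
    x ≫ conj hA g a = conj hA (x ≫ g) (x ≫ a) := by
  rw [conj, conj, ← Category.assoc, comp_lift]

theorem conj_eq_iff {T : Over S} (g : T ⟶ G) (a b : T ⟶ A) : conj hA g a = b ↔
    ∀ (T' : Over S) (x : T' ⟶ T) (h : T' ⟶ K),
      (x ≫ g) * (lift h (x ≫ a) ≫ υ) * (x ≫ g)⁻¹ = lift h (x ≫ b) ≫ υ := by
  refine ⟨fun e T' x h => by rw [← e, lift_conj], fun e => pt_ext hA fun T' x h => ?_⟩
  rw [lift_conj, e]

theorem conj_one {T : Over S} (a : T ⟶ A) : conj hA 1 a = a :=
  (conj_eq_iff hA _ _ _).2 fun T' x h => by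
    rw [MonObj.comp_one, _root_.one_mul, inv_one, _root_.mul_one]

theorem conj_conj {T : Over S} (g g' : T ⟶ G) (a : T ⟶ A) :
    conj hA g (conj hA g' a) = conj hA (g * g') a :=
  (conj_eq_iff hA _ _ _).2 fun T' x h => by
    rw [lift_conj, lift_conj, MonObj.comp_mul]
    group

theorem conj_eq_conj_iff {T : Over S} (g g' : T ⟶ G) (a b : T ⟶ A) :
    conj hA g a = conj hA g' b ↔ conj hA (g'⁻¹ * g) a = b := by
  constructor
  · intro e
    rw [← conj_conj, e, conj_conj, inv_mul_cancel, conj_one]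
  · intro e
    rw [← e, conj_conj, mul_inv_cancel_left]

/-- the orbit map of a point -/
def orbit (u : 𝟙_ (Over S) ⟶ A) : G ⟶ A := conj hA (𝟙 G) (toUnit G ≫ u)

theorem comp_orbit (u : 𝟙_ (Over S) ⟶ A) {T : Over S} (g : T ⟶ G) :
    g ≫ orbit hA u = conj hA g (toUnit T ≫ u) := by
  rw [orbit, comp_conj, Category.comp_id, ← Category.assoc, toUnit_unique (g ≫ toUnit G) (toUnit T)]

end Conj

section Transporter

variable {S : Scheme.{u}} {K G A : Over S} [GrpObj K] [GrpObj G] {υ : K ⊗ A ⟶ G}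
  (hA : AutFam.RepresentsHom K G A υ) {T : Over S}

/-- the structure map of a scheme over `T` -/
abbrev toT (Y : Over T.left) : Over.mk (Y.hom ≫ T.hom) ⟶ T := Over.homMk Y.hom rfl

/-- the homomorphism over `T` parametrised by a point of `A` -/
def uOf (υ : K ⊗ A ⟶ G) (a : T ⟶ A) : Red.bc T.hom K ⟶ Red.bc T.hom G :=
  NilAction.ofBase T.hom (lift (NilAction.toBase T.hom (𝟙 (Red.bc T.hom K))) (toT _ ≫ a) ≫ υ)

omit [GrpObj K] [GrpObj G] in
theorem comp_uOf (a : T ⟶ A) {Y : Over T.left} (y : Y ⟶ Red.bc T.hom K) :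
    y ≫ uOf υ a = NilAction.ofBase T.hom (lift (NilAction.toBase T.hom y) (toT Y ≫ a) ≫ υ) := by
  rw [uOf, Locus.comp_ofBase, comp_lift_assoc]
  congr 3
  apply Over.OverMorphism.ext
  show y.left ≫ (Red.bc T.hom K).hom ≫ a.left = Y.hom ≫ a.left
  rw [← Category.assoc, Over.w y]

include hA in
theorem isMonHom_uOf (a : T ⟶ A) : IsMonHom (uOf υ a) :=
  Bridge.isMonHom_of_mul _ fun {Y} p q => by
    rw [comp_uOf, comp_uOf, comp_uOf, NilAction.toBase_mul, lift_mul_υ hA, Locus.ofBase_mul]

/-- the transporter of two points of `A` -/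
theorem exists_transporter_pts [IsSeparated G.hom] [Smooth G.hom]
    (hK : TwC.Locally S TwC.Topology.fpqc (fun S' f => ∃ (M : Type) (_ : AddCommGroup M),
      Nonempty (Grp.mk (Red.bc f K) ≅ Grp.mk (Red.DS S' M)))) (a b : T ⟶ A) :
    ∃ (W : Over S) (p : W ⟶ G) (q : W ⟶ T), Smooth q.left ∧
      (∀ (Z : Over S) (g : Z ⟶ G) (τ : Z ⟶ T),
        (∃ z : Z ⟶ W, z ≫ p = g ∧ z ≫ q = τ) ↔ conj hA g (τ ≫ a) = τ ≫ b) ∧
      ∀ (Z : Over S) (z z' : Z ⟶ W), z ≫ p = z' ≫ p → z ≫ q = z' ≫ q → z = z' := by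
  have : IsSeparated (Red.bc T.hom G).hom := MorphismProperty.pullback_snd G.hom T.hom ‹_›
  have : Smooth (Red.bc T.hom G).hom := MorphismProperty.pullback_snd G.hom T.hom ‹_›
  have := isMonHom_uOf hA a
  have := isMonHom_uOf hA b
  obtain ⟨W, w, hwc, hsm, hW⟩ :=
    Locus.exists_smooth_transporter (Locus.locally_bc hK T.hom) (uOf υ a) (uOf υ b)
  have : Mono w := Over.mono_of_mono_left w
  have hself : conj hA (NilAction.toBase T.hom w) (toT W ≫ a) = toT W ≫ b := by
    rw [conj_eq_iff]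
    intro T' x h
    have htr := (hW W w).1 ⟨𝟙 W, Category.id_comp _⟩
    let Y : Over T.left := Over.mk (x.left ≫ W.hom)
    let t : Y ⟶ W := Over.homMk x.left rfl
    let e : Over.mk (Y.hom ≫ T.hom) ⟶ T' := Over.homMk (𝟙 _) (by
      show 𝟙 _ ≫ T'.hom = (x.left ≫ W.hom) ≫ T.hom
      rw [Category.id_comp, Category.assoc]; exact (Over.w x).symm)
    have : IsIso e := by
      have : IsIso ((Over.forget S).map e) := inferInstanceAs (IsIso (𝟙 _))
      exact isIso_of_reflects_iso _ (Over.forget S)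
    have h1 := htr Y t (NilAction.ofBase T.hom (e ≫ h))
    rw [comp_uOf, comp_uOf, NilAction.toBase_ofBase] at h1
    have h2 := congrArg (Locus.toBaseHom T.hom) h1
    simp only [map_mul, map_inv, Locus.toBaseHom, MonoidHom.mk'_apply, NilAction.toBase_ofBase] at h2
    have ht : NilAction.toBase T.hom (t ≫ w) = e ≫ x ≫ NilAction.toBase T.hom w := by
      apply Over.OverMorphism.ext
      show (x.left ≫ w.left) ≫ pullback.fst G.hom T.hom = 𝟙 _ ≫ x.left ≫ w.left ≫ pullback.fst G.hom T.hom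
      rw [Category.id_comp, Category.assoc]
    have hY : toT Y = e ≫ x ≫ toT W := by
      apply Over.OverMorphism.ext
      show x.left ≫ W.hom = 𝟙 _ ≫ x.left ≫ W.hom
      rw [Category.id_comp]
    rw [← cancel_epi e]
    simp only [MonObj.comp_mul, GrpObj.comp_inv, ← Category.assoc, comp_lift]
    simp only [Category.assoc]
    rw [ht, hY] at h2
    simpa only [Category.assoc] using h2
  refine ⟨Over.mk (W.hom ≫ T.hom), NilAction.toBase T.hom w, toT W, hsm, fun Z g τ => ?_, fun Z z z' h₁ h₂ => ?_⟩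
  · constructor
    · rintro ⟨z, rfl, rfl⟩
      rw [Category.assoc, ← comp_conj hA z, hself, Category.assoc]
    · intro hc
      let Y₀ : Over T.left := Over.mk τ.left
      let e₀ : Over.mk (Y₀.hom ≫ T.hom) ⟶ Z := Over.homMk (𝟙 _) (by
        show 𝟙 _ ≫ Z.hom = τ.left ≫ T.hom
        rw [Category.id_comp]; exact (Over.w τ).symm)
      obtain ⟨z, hz⟩ := (hW Y₀ (NilAction.ofBase T.hom (e₀ ≫ g))).2 fun X' t y => by
        let x : Over.mk (X'.hom ≫ T.hom) ⟶ Z := Over.homMk t.left (by
          show t.left ≫ Z.hom = X'.hom ≫ T.hom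
          rw [← Over.w τ, ← Category.assoc]
          exact congrArg (· ≫ T.hom) (Over.w t))
        have hx : NilAction.toBase T.hom (t ≫ NilAction.ofBase T.hom (e₀ ≫ g)) = x ≫ g := by
          apply Over.OverMorphism.ext
          show (t.left ≫ pullback.lift (𝟙 _ ≫ g.left) τ.left _) ≫ pullback.fst G.hom T.hom = t.left ≫ g.left
          rw [Category.assoc, pullback.lift_fst, Category.id_comp]
        have hxT : toT X' = x ≫ τ := Over.OverMorphism.ext (Over.w t).symm
        have hinj : ∀ {p q : X' ⟶ Red.bc T.hom G},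
            NilAction.toBase T.hom p = NilAction.toBase T.hom q → p = q := fun {p q} h => by
          rw [← NilAction.ofBase_toBase T.hom p, h, NilAction.ofBase_toBase]
        apply hinj
        show Locus.toBaseHom T.hom _ = Locus.toBaseHom T.hom _
        simp only [map_mul, map_inv, Locus.toBaseHom, MonoidHom.mk'_apply, comp_uOf, NilAction.toBase_ofBase, hx]
        rw [hxT, Category.assoc, Category.assoc]
        exact (conj_eq_iff hA _ _ _).1 hc _ x _
      refine ⟨Over.homMk z.left ?_, ?_, ?_⟩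
      · show z.left ≫ W.hom ≫ T.hom = Z.hom
        rw [← Category.assoc, Over.w z]
        exact Over.w τ
      · apply Over.OverMorphism.ext
        show z.left ≫ w.left ≫ pullback.fst G.hom T.hom = g.left
        rw [← Category.assoc, ← Over.comp_left, hz]
        show pullback.lift (𝟙 _ ≫ g.left) τ.left _ ≫ pullback.fst G.hom T.hom = g.left
        rw [pullback.lift_fst, Category.id_comp]
      · exact Over.OverMorphism.ext (Over.w z)
  · let Y : Over T.left := Over.mk (z ≫ toT W).left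
    let t : Y ⟶ W := Over.homMk z.left rfl
    let t' : Y ⟶ W := Over.homMk z'.left (congrArg (fun m => Over.Hom.left m) h₂).symm
    have h3 : t = t' := by
      rw [← cancel_mono w, ← NilAction.ofBase_toBase T.hom (t ≫ w), ← NilAction.ofBase_toBase T.hom (t' ≫ w)]
      congr 1
      apply Over.OverMorphism.ext
      show (z.left ≫ w.left) ≫ pullback.fst G.hom T.hom = (z'.left ≫ w.left) ≫ pullback.fst G.hom T.hom
      rw [Category.assoc, Category.assoc]
      exact congrArg (fun m => Over.Hom.left m) h₁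
    apply Over.OverMorphism.ext
    exact congrArg (fun m : Y ⟶ W => m.left) h3

/-- orbit maps are smooth -/
theorem smooth_orbit [IsSeparated G.hom] [Smooth G.hom]
    (hK : TwC.Locally S TwC.Topology.fpqc (fun S' f => ∃ (M : Type) (_ : AddCommGroup M),
      Nonempty (Grp.mk (Red.bc f K) ≅ Grp.mk (Red.DS S' M)))) (u : 𝟙_ (Over S) ⟶ A) :
    Smooth (orbit hA u).left := by
  obtain ⟨W, p, q, hq, hW, hmono⟩ := exists_transporter_pts hA hK (toUnit A ≫ u) (𝟙 A)
  have hu : ∀ {Z : Over S} (τ : Z ⟶ A), τ ≫ toUnit A ≫ u = toUnit Z ≫ u := fun τ => by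
    rw [← Category.assoc, toUnit_unique (τ ≫ toUnit A) (toUnit _)]
  obtain ⟨s, hsp, hsq⟩ := (hW G (𝟙 G) (orbit hA u)).2 (by rw [hu, Category.comp_id]; rfl)
  have hqp : q = p ≫ orbit hA u := by
    have h1 := (hW W p q).1 ⟨𝟙 W, Category.id_comp _, Category.id_comp _⟩
    rw [hu, Category.comp_id] at h1
    rw [comp_orbit, h1]
  have hps : p ≫ s = 𝟙 W := hmono W _ _ (by rw [Category.assoc, hsp, Category.comp_id, Category.id_comp])
    (by rw [Category.assoc, hsq, ← hqp, Category.id_comp])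
  have : IsIso s := ⟨p, hsp, hps⟩
  have : IsIso s.left := inferInstanceAs (IsIso ((Over.forget S).map s))
  have := hq
  rw [← hsq, Over.comp_left]
  infer_instance

end Transporter

section Clopen

variable {k : Type u} [Field k] {K G A : Over (Spec (CommRingCat.of k))} [GrpObj K] [GrpObj G]
  {υ : K ⊗ A ⟶ G} (hA : AutFam.RepresentsHom K G A υ)

/-- over a field orbits are closed -/
theorem isClosed_range_orbit [IsSeparated G.hom] [Smooth G.hom]
    (hK : TwC.Locally (Spec (CommRingCat.of k)) TwC.Topology.fpqc (fun S' f => ∃ (M : Type) (_ : AddCommGroup M),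
      Nonempty (Grp.mk (Red.bc f K) ≅ Grp.mk (Red.DS S' M)))) (u : 𝟙_ (Over (Spec (CommRingCat.of k))) ⟶ A) :
    IsClosed (Set.range (orbit hA u).left) := by
  classical
  refine ⟨isOpen_iff_forall_mem_open.2 fun x hx => ?_⟩
  let P : Over (Spec (CommRingCat.of k)) := Over.mk (A.left.fromSpecResidueField x ≫ A.hom)
  let a₀ : P ⟶ A := Over.homMk (A.left.fromSpecResidueField x) rfl
  obtain ⟨W, p, q, hq, hW, -⟩ := exists_transporter_pts hA hK (snd A P ≫ a₀) (fst A P)
  have := hq
  have hfst : UniversallyOpen (fst A P).left :=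
    inferInstanceAs (UniversallyOpen (pullback.fst A.hom P.hom))
  refine ⟨(fst A P).left '' Set.range q.left, ?_, (fst A P).left.isOpenMap _ q.left.isOpenMap.isOpen_range, ?_⟩
  · rintro _ ⟨_, ⟨w, rfl⟩, rfl⟩ ⟨g', hg'⟩
    refine hx ?_
    obtain ⟨z, hzw, hzg⟩ := Scheme.Pullback.exists_preimage_pullback w g'
      (f := (q ≫ fst A P).left) (g := (orbit hA u).left) hg'.symm
    let L := pullback (q ≫ fst A P).left (orbit hA u).left
    let Z : Over (Spec (CommRingCat.of k)) :=
      Over.mk (L.fromSpecResidueField z ≫ pullback.fst (q ≫ fst A P).left (orbit hA u).left ≫ W.hom)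
    let zw : Z ⟶ W := Over.homMk (L.fromSpecResidueField z ≫ pullback.fst _ _) (by simp [Z])
    let zg : Z ⟶ G := Over.homMk (L.fromSpecResidueField z ≫ pullback.snd _ _) (by
      show _ = L.fromSpecResidueField z ≫ pullback.fst _ _ ≫ W.hom
      rw [← Over.w (q ≫ fst A P), pullback.condition_assoc, Over.w (orbit hA u), Category.assoc])
    have he : zw ≫ q ≫ fst A P = zg ≫ orbit hA u := by
      apply Over.OverMorphism.ext
      show (_ ≫ pullback.fst _ _) ≫ (q ≫ fst A P).left = (_ ≫ pullback.snd _ _) ≫ (orbit hA u).left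
      rw [Category.assoc, Category.assoc, pullback.condition]
    have h1 := (hW Z (zw ≫ p) (zw ≫ q)).1 ⟨zw, rfl, rfl⟩
    rw [Category.assoc, Category.assoc, he, comp_orbit, conj_eq_conj_iff] at h1
    have h2 : conj hA ((zw ≫ p)⁻¹ * zg) (toUnit Z ≫ u) = zw ≫ q ≫ snd A P ≫ a₀ := by
      rw [← h1, conj_conj]
      group
      rw [conj_one]
    rw [← comp_orbit] at h2
    have h3 := congrArg (fun m : Z ⟶ A => m.left.base (IsLocalRing.closedPoint (L.residueField z))) h2
    refine ⟨((zw ≫ p)⁻¹ * zg).left (IsLocalRing.closedPoint (L.residueField z)), h3.trans ?_⟩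
    exact Scheme.fromSpecResidueField_apply x _
  · obtain ⟨z, hzp, hzq⟩ := (hW P 1 (lift a₀ (𝟙 P))).2 (by
      rw [lift_snd_assoc, Category.id_comp, lift_fst, conj_one])
    refine ⟨_, ⟨z.left (IsLocalRing.closedPoint (A.left.residueField x)), rfl⟩, ?_⟩
    have h1 := congrArg (fun m : P ⟶ A ⊗ P => (m ≫ fst A P).left.base (IsLocalRing.closedPoint (A.left.residueField x))) hzq
    simp only [lift_fst] at h1
    exact h1.trans (Scheme.fromSpecResidueField_apply x _)

end Clopen

end Groth.L24.QuotAff
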